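import Cfsg.Agent.S5398
import Cfsg.Agent.S5456

/-!
# The class of type M(22) is the only generating class of 3-transpositions
-/

set_option autoImplicit false
open Cfsg
open Cfsg.Lib.Fischer Cfsg.Lib.Fischer.Relations Cfsg.Lib.Fischer.RadicalAbelian Cfsg.Lib.Linear.Herm

namespace Cfsg.Lib.Fischer.Relations.FixedMember

/-- The argument of the uniqueness of the class, without the hypothesis on an involution centralizer. -/
theorem class_unique {G : Type*} [Group G] [Finite G] {D : Set G} (hD : Cfsg.IsThreeTranspositionGroup D)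
    (hprim : Cfsg.IsPrimitiveUnderConj D) (h22 : Cfsg.IsOfTypeM22 G D) (D' : Set G)
    (hD' : Cfsg.IsThreeTranspositionClass D') : D' = D := by
  obtain ⟨hset, hconj, hgen⟩ := hD
  have hne : D.Nonempty := by
    obtain ⟨-, d, hd, -⟩ := h22
    exact ⟨d, hd⟩
  have hT : Trans D := ⟨hset, hconj, hprim.1, hgen, hne⟩
  obtain ⟨F, _, _, hF, d₁, ⟨C⟩⟩ := m22_coord hT hprim h22
  obtain ⟨hDc, hG, -⟩ := m22_order hT hprim h22
  obtain ⟨hset', ⟨d', hd', rfl⟩, -⟩ := hD'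
  have hd'2 : d' * d' = 1 := by rw [← pow_two, ← hset'.1 d' hd', pow_orderOf_eq_one]
  obtain ⟨g, hg⟩ := C.exists_conj_commute hG hDc (hset'.1 d' hd')
  obtain ⟨m, hm, hy⟩ := C.involution_isProd hg (by
    calc g * d' * g⁻¹ * (g * d' * g⁻¹) = g * (d' * d') * g⁻¹ := by group
      _ = 1 := by rw [hd'2, mul_one, mul_inv_cancel])
  have hm' : IsProd D m d' := by simpa [mul_assoc] using hy.conj hT g⁻¹
  have hm1 : 1 ≤ m := Nat.one_le_iff_ne_zero.2 fun h0 => by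
    obtain ⟨l, -, hlen, -, -, e⟩ := hm'
    rw [h0, List.length_eq_zero_iff] at hlen
    have := hset'.1 d' hd'
    rw [← e, hlen] at this
    simp at this
  rcases eq_or_lt_of_le hm1 with rfl | hm2
  · obtain ⟨l, -, hlen, hl, -, e⟩ := hm'
    obtain ⟨a, rfl⟩ := List.length_eq_one_iff.1 hlen
    rw [List.prod_singleton] at e
    subst e
    ext x
    refine ⟨fun hx => ?_, fun hx => isConj_iff.2 (hT.trans a (hl a (by simp)) x hx)⟩
    obtain ⟨c, rfl⟩ := isConj_iff.1 hx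
    exact hT.conj c a (hl a (by simp))
  exfalso
  -- a path of four neighbours
  have hB6 : ∀ v w : Fin 6 → F, hB hF 6 v w = Cfsg.hermForm 6 F 2 w v := fun v w => hB_apply hF 6 v w
  have h2F : (2 : F) = 0 := (fourField hF).two
  have hpt : ∀ v : Fin 6 → F, v ≠ 0 → hB hF 6 v v = 0 → ∃ s ∈ perp D d₁, ∃ k : F, k ≠ 0 ∧ C.U.c s = k • v :=
    fun v => C.exists_point
  have hcomm : ∀ {s t : G} {v w : Fin 6 → F}, s ∈ perp D d₁ → t ∈ perp D d₁ →
      (∃ k : F, k ≠ 0 ∧ C.U.c s = k • v) → (∃ k : F, k ≠ 0 ∧ C.U.c t = k • w) →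
      (Commute s t ↔ hB hF 6 v w = 0) := by
    rintro s t v w hs ht ⟨k, hk, ek⟩ ⟨j, hj, ej⟩
    rw [C.U.comm s hs t ht, ek, ej, map_smul, LinearMap.map_smulₛₗ, LinearMap.smul_apply]
    simp [hk, hj]
  have hne1 : ∀ i : Fin 6, ∀ v : Fin 6 → F, v i = 1 → v ≠ 0 := fun i v hv e => by simp [e] at hv
  obtain ⟨a, ha, ea⟩ := hpt ![1, 1, 0, 0, 0, 0] (hne1 0 _ rfl)
    (by simp [hB6, Cfsg.hermForm, Fin.sum_univ_six]; linear_combination h2F)
  obtain ⟨b, hb, eb⟩ := hpt ![0, 1, 1, 0, 0, 0] (hne1 1 _ rfl)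
    (by simp [hB6, Cfsg.hermForm, Fin.sum_univ_six]; linear_combination h2F)
  obtain ⟨c, hc, ec⟩ := hpt ![0, 0, 1, 1, 0, 0] (hne1 2 _ rfl)
    (by simp [hB6, Cfsg.hermForm, Fin.sum_univ_six]; linear_combination h2F)
  obtain ⟨e, he, ee⟩ := hpt ![0, 0, 0, 1, 1, 0] (hne1 3 _ rfl)
    (by simp [hB6, Cfsg.hermForm, Fin.sum_univ_six]; linear_combination h2F)
  have hab : ¬ Commute a b := by simp [hcomm ha hb ea eb, hB6, Cfsg.hermForm, Fin.sum_univ_six]
  have hbc : ¬ Commute b c := by simp [hcomm hb hc eb ec, hB6, Cfsg.hermForm, Fin.sum_univ_six]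
  have hce : ¬ Commute c e := by simp [hcomm hc he ec ee, hB6, Cfsg.hermForm, Fin.sum_univ_six]
  have hac : Commute a c := by simp [hcomm ha hc ea ec, hB6, Cfsg.hermForm, Fin.sum_univ_six]
  have hbe : Commute b e := by simp [hcomm hb he eb ee, hB6, Cfsg.hermForm, Fin.sum_univ_six]
  have hae : Commute a e := by simp [hcomm ha he ea ee, hB6, Cfsg.hermForm, Fin.sum_univ_six]
  have nac : a ≠ c := fun h => hce (h ▸ hae)
  have nbe : b ≠ e := fun h => hab (h ▸ hae)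
  have hin : ∀ x, IsProd D m x → x ∈ conjugatesOf d' := fun x hx =>
    Cfsg.Agent.S5398.isConj_prod C hm1 hm hm' hx
  obtain ⟨z, hz, hzc, hza, hzb⟩ : ∃ z : G, z * z = 1 ∧ (∀ u ∈ perp D d₁, Commute z u) ∧
      IsProd D m (z * (a * c)) ∧ IsProd D m (z * (b * e)) := by
    interval_cases m
    · refine ⟨1, one_mul 1, fun u _ => Commute.one_left u, ⟨[a, c], ?_⟩, ⟨[b, e], ?_⟩⟩
      · simp [nac, ha.1, hc.1, hac, hac.symm]
      · simp [nbe, hb.1, he.1, hbe, hbe.symm]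
    · refine ⟨d₁, mul_self hT C.mem, fun u hu => hu.2.2, ⟨[d₁, a, c], ?_⟩, ⟨[d₁, b, e], ?_⟩⟩
      · obtain ⟨h1, h2, h3⟩ := IsTriple.mk C.mem ha.1 hc.1 ha.2.1.symm hc.2.1.symm nac ha.2.2 hc.2.2 hac
        exact ⟨h1, rfl, h2, h3, by simp⟩
      · obtain ⟨h1, h2, h3⟩ := IsTriple.mk C.mem hb.1 he.1 hb.2.1.symm he.2.1.symm nbe hb.2.2 he.2.2 hbe
        exact ⟨h1, rfl, h2, h3, by simp⟩
  exact Cfsg.Agent.S5456.path_false hT C.noRel ha.1 hb.1 hc.1 he.1 hab hbc hce hac hbe hae hz (hzc a ha) (hzc c hc)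
    (hset'.2 _ (hin _ hza) _ (hin _ hzb))


end Cfsg.Lib.Fischer.Relations.FixedMember
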