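import Mathlib
import Cfsg.Agent.Lib.Fischer.Relations.Centralizer.Sizes
import Cfsg.Agent.Lib.CosetEnum.GFFour

/-!
# Isotropic vectors perpendicular to configurations in six dimensional hermitian space over four elements

Splitting off hyperbolic pairs multiplies both the size of a perpendicular space and the signed count of its
isotropic vectors.
-/

set_option autoImplicit false
set_option linter.unusedSectionVars false

namespace Cfsg.Lib.Fischer.Relations.FixedMember

open Module Matrix Cfsg Cfsg.Lib.Fischer Cfsg.Lib.Linear.Herm Cfsg.Agent.S1631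
  Cfsg.Lib.Fischer.RadicalAbelian
open Cfsg.Lib.Linear

variable {F : Type} [Field F] [Fintype F] (hF : Fintype.card F = 2 ^ 2)

local notation "V" => Fin 6 → F

/-- The vectors perpendicular to a set. -/
noncomputable def W (L : Set V) : Finset V := by
  classical exact Finset.univ.filter fun v => ∀ w ∈ L, hB hF 6 w v = 0

theorem mem_W {L : Set V} {v : V} : v ∈ W hF L ↔ ∀ w ∈ L, hB hF 6 w v = 0 := by
  classical simp [W]

include hF

theorem frob_two (x : F) : frob hF x = x * x := by rw [frob_apply, pow_two]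

theorem add_self_eq (x : F) : x + x = 0 := by rw [← two_mul, (fourField hF).two, zero_mul]

theorem vec_add_self (v : V) : v + v = 0 := funext fun i => add_self_eq hF (v i)

theorem swap_form (x y : V) : hB hF 6 y x = hB hF 6 x y * hB hF 6 x y := by
  rw [← frob_two hF]; exact ((hB_isSymm hF 6).eq x y).symm

theorem perp_symm {x y : V} (h : hB hF 6 x y = 0) : hB hF 6 y x = 0 := by
  rw [swap_form hF, h, mul_zero]

theorem self_val (v : V) : hB hF 6 v v = 0 ∨ hB hF 6 v v = 1 := by
  rcases eq_or_ne (hB hF 6 v v) 0 with h | h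
  · exact Or.inl h
  · exact Or.inr (mul_right_cancel₀ h (by rw [← swap_form hF, one_mul]))

/-- A hyperbolic pair. -/
structure Pair (p q : V) : Prop where
  left : hB hF 6 p p = 0
  right : hB hF 6 q q = 0
  prod : hB hF 6 p q = 1

variable {hF}

theorem Pair.prod' {p q : V} (h : Pair hF p q) : hB hF 6 q p = 1 := by rw [swap_form hF, h.prod, one_mul]

theorem form_right_smul (x : V) (a : F) (y : V) : hB hF 6 x (a • y) = a * hB hF 6 x y := by
  rw [map_smul, smul_eq_mul]

theorem form_left_smul (a : F) (x y : V) : hB hF 6 (a • x) y = a * a * hB hF 6 x y := by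
  rw [LinearMap.map_smulₛₗ, LinearMap.smul_apply, smul_eq_mul, frob_two hF]

theorem Pair.bijection {p q : V} (h : Pair hF p q) {L : Set V} (hp : p ∈ W hF L) (hq : q ∈ W hF L) (f : V → ℤ) :
    ∑ v ∈ W hF L, f v =
      ∑ x ∈ (Finset.univ : Finset (F × F)) ×ˢ W hF (insert p (insert q L)), f (x.1.1 • p + x.1.2 • q + x.2) := by
  classical
  symm
  refine Finset.sum_nbij' (fun x => x.1.1 • p + x.1.2 • q + x.2)
    (fun v => ((hB hF 6 q v, hB hF 6 p v), v + hB hF 6 q v • p + hB hF 6 p v • q))
    (fun x hx => ?_) (fun v hv => ?_) (fun x hx => ?_) (fun v hv => ?_) (fun x _ => rfl)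
  · simp only [Finset.mem_product, mem_W, Set.forall_mem_insert] at hx
    rw [mem_W]
    intro w hw
    rw [map_add, map_add, form_right_smul, form_right_smul, (mem_W hF).1 hp w hw, (mem_W hF).1 hq w hw,
      hx.2.2.2 w hw, mul_zero, mul_zero, add_zero, add_zero]
  · rw [Finset.mem_product, mem_W, Set.forall_mem_insert, Set.forall_mem_insert]
    refine ⟨Finset.mem_univ _, ?_, ?_, fun w hw => ?_⟩
    · rw [map_add, map_add, form_right_smul, form_right_smul, h.left, h.prod, mul_zero, add_zero, mul_one,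
        add_self_eq hF]
    · rw [map_add, map_add, form_right_smul, form_right_smul, h.right, h.prod', mul_zero, add_zero, mul_one,
        add_self_eq hF]
    · rw [map_add, map_add, form_right_smul, form_right_smul, (mem_W hF).1 hp w hw, (mem_W hF).1 hq w hw,
        (mem_W hF).1 hv w hw, mul_zero, mul_zero, add_zero, add_zero]
  · simp only [Finset.mem_product, mem_W, Set.forall_mem_insert] at hx
    obtain ⟨⟨a, b⟩, u⟩ := x
    have e1 : hB hF 6 q (a • p + b • q + u) = a := by
      rw [map_add, map_add, form_right_smul, form_right_smul, h.prod', h.right, hx.2.2.1]; simp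
    have e2 : hB hF 6 p (a • p + b • q + u) = b := by
      rw [map_add, map_add, form_right_smul, form_right_smul, h.left, h.prod, hx.2.1]; simp
    simp only [e1, e2]
    refine Prod.ext rfl ?_
    show a • p + b • q + u + a • p + b • q = u
    calc a • p + b • q + u + a • p + b • q = u + ((a • p + a • p) + (b • q + b • q)) := by abel
      _ = u := by rw [vec_add_self hF, vec_add_self hF, add_zero, add_zero]
  · calc hB hF 6 q v • p + hB hF 6 p v • q + (v + hB hF 6 q v • p + hB hF 6 p v • q)
        = v + ((hB hF 6 q v • p + hB hF 6 q v • p) + (hB hF 6 p v • q + hB hF 6 p v • q)) := by abel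
      _ = v := by rw [vec_add_self hF, vec_add_self hF, add_zero, add_zero]

theorem Pair.bijection_left {p q : V} (h : Pair hF p q) {L : Set V} (hp : p ∈ W hF L) (hq : q ∈ W hF L)
    (f : V → ℤ) :
    ∑ v ∈ W hF (insert p L), f v =
      ∑ x ∈ (Finset.univ : Finset F) ×ˢ W hF (insert p (insert q L)), f (x.1 • p + x.2) := by
  classical
  symm
  refine Finset.sum_nbij' (fun x => x.1 • p + x.2)
    (fun v => (hB hF 6 q v, v + hB hF 6 q v • p))
    (fun x hx => ?_) (fun v hv => ?_) (fun x hx => ?_) (fun v hv => ?_) (fun x _ => rfl)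
  · simp only [Finset.mem_product, mem_W, Set.forall_mem_insert] at hx
    rw [mem_W, Set.forall_mem_insert]
    refine ⟨by rw [map_add, form_right_smul, h.left, hx.2.1, mul_zero, add_zero], fun w hw => ?_⟩
    rw [map_add, form_right_smul, (mem_W hF).1 hp w hw, hx.2.2.2 w hw, mul_zero, add_zero]
  · rw [mem_W, Set.forall_mem_insert] at hv
    rw [Finset.mem_product, mem_W, Set.forall_mem_insert, Set.forall_mem_insert]
    refine ⟨Finset.mem_univ _, ?_, ?_, fun w hw => ?_⟩
    · rw [map_add, form_right_smul, h.left, hv.1, mul_zero, add_zero]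
    · rw [map_add, form_right_smul, h.prod', mul_one, add_self_eq hF]
    · rw [map_add, form_right_smul, (mem_W hF).1 hp w hw, hv.2 w hw, mul_zero, add_zero]
  · simp only [Finset.mem_product, mem_W, Set.forall_mem_insert] at hx
    obtain ⟨a, u⟩ := x
    have e1 : hB hF 6 q (a • p + u) = a := by rw [map_add, form_right_smul, h.prod', hx.2.2.1]; simp
    simp only [e1]
    refine Prod.ext rfl ?_
    show a • p + u + a • p = u
    calc a • p + u + a • p = u + (a • p + a • p) := by abel
      _ = u := by rw [vec_add_self hF, add_zero]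
  · calc hB hF 6 q v • p + (v + hB hF 6 q v • p) = v + (hB hF 6 q v • p + hB hF 6 q v • p) := by abel
      _ = v := by rw [vec_add_self hF, add_zero]

variable (hF)

/-- The sign of a value of the form. -/
noncomputable def sg (x : F) : ℤ := by classical exact if x = 0 then 1 else -1

/-- The signed count. -/
noncomputable def S (L : Set V) : ℤ := ∑ v ∈ W hF L, sg (hB hF 6 v v)

/-- The number of isotropic vectors. -/
noncomputable def I (L : Set V) : ℕ := by classical exact ((W hF L).filter fun v => hB hF 6 v v = 0).card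

theorem two_I (L : Set V) : 2 * (I hF L : ℤ) = (W hF L).card + S hF L := by
  classical
  rw [I, S, Finset.card_filter, Nat.cast_sum, Finset.card_eq_sum_ones (W hF L), Nat.cast_sum, Finset.mul_sum,
    ← Finset.sum_add_distrib]
  refine Finset.sum_congr rfl fun v _ => ?_
  by_cases hv : hB hF 6 v v = 0 <;> simp [sg, hv]

theorem sg_add {x y : F} (hx : x = 0 ∨ x = 1) (hy : y = 0 ∨ y = 1) : sg (x + y) = sg x * sg y := by
  classical
  rcases hx with rfl | rfl <;> rcases hy with rfl | rfl <;> simp [sg, add_self_eq hF]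

theorem sum_sg_plane : ∑ x : F × F, sg (x.1 * x.1 * x.2 + x.2 * x.2 * x.1) = 4 := by
  classical
  let e : CosetEnum.GF4 ≃+* F := FiniteField.ringEquivOfCardEq (by rw [CosetEnum.GF4.card_eq, hF]; norm_num)
  rw [← (e.toEquiv.prodCongr e.toEquiv).sum_comp fun x : F × F => sg (x.1 * x.1 * x.2 + x.2 * x.2 * x.1)]
  have h : ∀ x : CosetEnum.GF4 × CosetEnum.GF4,
      sg (e x.1 * e x.1 * e x.2 + e x.2 * e x.2 * e x.1) =
        if x.1 * x.1 * x.2 + x.2 * x.2 * x.1 = 0 then 1 else -1 := fun x => by
    rw [← map_mul, ← map_mul, ← map_mul, ← map_mul, ← map_add, sg]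
    by_cases hx : x.1 * x.1 * x.2 + x.2 * x.2 * x.1 = 0
    · simp [hx]
    · rw [if_neg hx, if_neg (fun h0 => hx (e.injective (h0.trans (map_zero e).symm)))]
  show ∑ x : CosetEnum.GF4 × CosetEnum.GF4, sg (e x.1 * e x.1 * e x.2 + e x.2 * e x.2 * e x.1) = 4
  simp only [h]
  decide

variable {hF}

theorem Pair.split {p q : V} (h : Pair hF p q) {L : Set V} (hp : p ∈ W hF L) (hq : q ∈ W hF L) :
    (W hF L).card = 16 * (W hF (insert p (insert q L))).card ∧
      S hF L = 4 * S hF (insert p (insert q L)) := by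
  classical
  constructor
  · have := h.bijection hp hq fun _ => 1
    simp only [Finset.sum_const, nsmul_eq_mul, mul_one, Finset.card_product, Finset.card_univ,
      Fintype.card_prod, hF] at this
    norm_num at this
    exact_mod_cast this
  · rw [S, S, h.bijection hp hq, Finset.sum_product, ← sum_sg_plane hF, Finset.sum_mul]
    refine Finset.sum_congr rfl fun x _ => ?_
    rw [Finset.mul_sum]
    refine Finset.sum_congr rfl fun v hv => ?_
    rw [mem_W, Set.forall_mem_insert, Set.forall_mem_insert] at hv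
    have e : hB hF 6 (x.1 • p + x.2 • q + v) (x.1 • p + x.2 • q + v) =
        (x.1 * x.1 * x.2 + x.2 * x.2 * x.1) + hB hF 6 v v := by
      simp only [map_add, LinearMap.add_apply, form_left_smul, form_right_smul, h.left, h.right, h.prod,
        h.prod', hv.1, hv.2.1, perp_symm hF hv.1, perp_symm hF hv.2.1]
      ring
    rw [e, sg_add hF ?_ (self_val hF v)]
    have e2 : hB hF 6 (x.1 • p + x.2 • q) (x.1 • p + x.2 • q) = x.1 * x.1 * x.2 + x.2 * x.2 * x.1 := by
      simp only [map_add, LinearMap.add_apply, form_left_smul, form_right_smul, h.left, h.right, h.prod, h.prod']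
      ring
    exact e2 ▸ self_val hF (x.1 • p + x.2 • q)

theorem Pair.split_left {p q : V} (h : Pair hF p q) {L : Set V} (hp : p ∈ W hF L) (hq : q ∈ W hF L) :
    (W hF (insert p L)).card = 4 * (W hF (insert p (insert q L))).card ∧
      S hF (insert p L) = 4 * S hF (insert p (insert q L)) := by
  classical
  constructor
  · have := h.bijection_left hp hq fun _ => 1
    simp only [Finset.sum_const, nsmul_eq_mul, mul_one, Finset.card_product, Finset.card_univ, hF] at this
    norm_num at this
    exact_mod_cast this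
  · rw [S, S, h.bijection_left hp hq, Finset.sum_product]
    have e : ∀ a : F, ∀ v ∈ W hF (insert p (insert q L)),
        sg (hB hF 6 (a • p + v) (a • p + v)) = sg (hB hF 6 v v) := fun a v hv => by
      rw [mem_W, Set.forall_mem_insert, Set.forall_mem_insert] at hv
      simp [map_add, LinearMap.add_apply, form_left_smul, form_right_smul, h.left, hv.1, perp_symm hF hv.1]
    rw [Finset.sum_congr rfl fun a _ => Finset.sum_congr rfl (e a)]
    simp [hF]

variable (hF)

theorem base : (W hF (∅ : Set V)).card = 4096 ∧ S hF (∅ : Set V) = 64 := by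
  classical
  have hu : W hF (∅ : Set V) = Finset.univ := by ext v; simp [mem_W]
  have hc : (W hF (∅ : Set V)).card = 4096 := by rw [hu, Finset.card_univ, Fintype.card_fun, hF]; norm_num
  have hN : N F 2 6 0 = 2080 := by
    have h := (N_formula hF 6).1
    norm_num at h
    omega
  have hI : I hF (∅ : Set V) = 2080 := by
    rw [← hN, N, I, hu, ← Fintype.card_subtype, ← Nat.card_eq_fintype_card]
    refine Nat.card_congr (Equiv.subtypeEquivRight fun v => ?_)
    rw [hB_self]
    simp only [pow_succ, pow_zero, one_mul, mul_assoc]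
  have := two_I hF (∅ : Set V)
  rw [hI, hc] at this
  exact ⟨hc, by push_cast at this; omega⟩

variable {hF}

theorem mate_empty {p : V} (hp : p ≠ 0) : ∃ u ∈ W hF (∅ : Set V), hB hF 6 p u ≠ 0 := by
  obtain ⟨u, hu⟩ := Linear.exists_one (fourField hF) (hB_isSymm hF 6) (hB_nondegenerate hF 6) hp
  exact ⟨u, (mem_W hF).2 (by simp), by simp [hu]⟩

theorem Pair.mate {p₁ q₁ : V} (h : Pair hF p₁ q₁) {L : Set V} (hp₁ : p₁ ∈ W hF L) (hq₁ : q₁ ∈ W hF L) {p : V}
    (hp : p ∈ W hF (insert p₁ (insert q₁ L))) (hm : ∃ u ∈ W hF L, hB hF 6 p u ≠ 0) :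
    ∃ u ∈ W hF (insert p₁ (insert q₁ L)), hB hF 6 p u ≠ 0 := by
  obtain ⟨u, hu, hpu⟩ := hm
  rw [mem_W, Set.forall_mem_insert, Set.forall_mem_insert] at hp
  refine ⟨u + hB hF 6 q₁ u • p₁ + hB hF 6 p₁ u • q₁, ?_, ?_⟩
  · rw [mem_W, Set.forall_mem_insert, Set.forall_mem_insert]
    refine ⟨?_, ?_, fun w hw => ?_⟩
    · rw [map_add, map_add, form_right_smul, form_right_smul, h.left, h.prod, mul_zero, add_zero, mul_one,
        add_self_eq hF]
    · rw [map_add, map_add, form_right_smul, form_right_smul, h.right, h.prod', mul_zero, add_zero, mul_one,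
        add_self_eq hF]
    · rw [map_add, map_add, form_right_smul, form_right_smul, (mem_W hF).1 hp₁ w hw, (mem_W hF).1 hq₁ w hw,
        (mem_W hF).1 hu w hw, mul_zero, mul_zero, add_zero, add_zero]
  · rwa [map_add, map_add, form_right_smul, form_right_smul, perp_symm hF hp.1, perp_symm hF hp.2.1, mul_zero,
      mul_zero, add_zero, add_zero]

theorem exists_pair {p : V} {L : Set V} (hp : hB hF 6 p p = 0) (hpL : p ∈ W hF L)
    (hm : ∃ u ∈ W hF L, hB hF 6 p u ≠ 0) : ∃ q ∈ W hF L, Pair hF p q := by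
  obtain ⟨u, hu, hpu⟩ := hm
  obtain ⟨w, hwdef⟩ : ∃ w, w = (hB hF 6 p u)⁻¹ • u := ⟨_, rfl⟩
  have hpw : hB hF 6 p w = 1 := by rw [hwdef, form_right_smul, inv_mul_cancel₀ hpu]
  have hwp : hB hF 6 w p = 1 := by rw [swap_form hF, hpw, one_mul]
  have hw : ∀ y ∈ L, hB hF 6 y w = 0 := fun y hy => by
    rw [hwdef, form_right_smul, (mem_W hF).1 hu y hy, mul_zero]
  rcases self_val hF w with h | h
  · exact ⟨w, (mem_W hF).2 hw, hp, h, hpw⟩
  obtain ⟨ω, hω⟩ := Linear.exists_omega (fourField hF) (hB_isSymm hF 6) (hB_nondegenerate hF 6)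
  have hω1 : ω ≠ 1 := fun e => hω (by rw [e, map_one])
  have hω0 : ω ≠ 0 := fun e => hω (by rw [e, map_zero])
  have h2 : ω * ω + ω + 1 = 0 := by
    have hc := (fourField hF).cube ω hω0
    have : (ω - 1) * (ω * ω + ω + 1) = 0 := by linear_combination hc
    exact (mul_eq_zero.1 this).resolve_left (sub_ne_zero.2 hω1)
  refine ⟨w + ω • p, (mem_W hF).2 fun y hy => ?_, hp, ?_, ?_⟩
  · rw [map_add, form_right_smul, hw y hy, (mem_W hF).1 hpL y hy, mul_zero, add_zero]
  · simp only [map_add, LinearMap.add_apply, form_left_smul, form_right_smul, hp, h, hpw, hwp]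
    linear_combination h2
  · rw [map_add, form_right_smul, hpw, hp, mul_zero, add_zero]

/-- A hyperbolic pair leaves 136 isotropic vectors. -/
theorem Pair.count {p q : V} (h : Pair hF p q) :
    (W hF ({p, q} : Set V)).card = 256 ∧ S hF ({p, q} : Set V) = 16 := by
  obtain ⟨hc, hS⟩ := base hF
  obtain ⟨h1, h2⟩ := h.split (L := ∅) ((mem_W hF).2 (by simp)) ((mem_W hF).2 (by simp))
  rw [show (insert p (insert q ∅) : Set V) = {p, q} by simp] at h1 h2
  omega

/-- Two perpendicular hyperbolic pairs. -/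
theorem Pair.count_two {p q r s : V} (h : Pair hF p q) (h' : Pair hF r s) (hr : r ∈ W hF ({p, q} : Set V))
    (hs : s ∈ W hF ({p, q} : Set V)) :
    (W hF ({r, s, p, q} : Set V)).card = 16 ∧ S hF ({r, s, p, q} : Set V) = 4 := by
  obtain ⟨hc, hS⟩ := h.count
  obtain ⟨h1, h2⟩ := h'.split hr hs
  rw [hc] at h1
  rw [hS] at h2
  exact ⟨by omega, by omega⟩

/-- A point perpendicular to a hyperbolic pair. -/
theorem count_point {p q y : V} (h : Pair hF p q) (hy : hB hF 6 y y = 0) (hy0 : y ≠ 0)
    (hyW : y ∈ W hF ({p, q} : Set V)) :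
    (W hF ({y, p, q} : Set V)).card = 64 ∧ S hF ({y, p, q} : Set V) = 16 := by
  have hpq : ({p, q} : Set V) = insert p (insert q ∅) := by simp
  have he : ∀ v : V, v ∈ W hF (∅ : Set V) := fun v => (mem_W hF).2 (by simp)
  obtain ⟨y', hy', hP⟩ := exists_pair hy hyW (hpq ▸ h.mate (he p) (he q) (hpq ▸ hyW) (mate_empty hy0))
  obtain ⟨h1, h2⟩ := h.count_two hP hyW hy'
  obtain ⟨h3, h4⟩ := hP.split_left hyW hy'
  rw [h1] at h3
  rw [h2] at h4
  exact ⟨h3, h4⟩

/-- A line perpendicular to a hyperbolic pair. -/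
theorem count_line {p q y z : V} (h : Pair hF p q) (hy : hB hF 6 y y = 0) (hy0 : y ≠ 0)
    (hyW : y ∈ W hF ({p, q} : Set V)) (hz : hB hF 6 z z = 0) (hzW : z ∈ W hF ({p, q} : Set V))
    (hyz : hB hF 6 y z = 0) (hind : ∀ k : F, z ≠ k • y) :
    (W hF ({z, y, p, q} : Set V)).card = 16 ∧ S hF ({z, y, p, q} : Set V) = 16 := by
  have hpq : ({p, q} : Set V) = insert p (insert q ∅) := by simp
  have he : ∀ v : V, v ∈ W hF (∅ : Set V) := fun v => (mem_W hF).2 (by simp)
  obtain ⟨y', hy', hP⟩ := exists_pair hy hyW (hpq ▸ h.mate (he p) (he q) (hpq ▸ hyW) (mate_empty hy0))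
  obtain ⟨w, hwdef⟩ : ∃ w, w = z + hB hF 6 y' z • y := ⟨_, rfl⟩
  have hzy : hB hF 6 z y = 0 := perp_symm hF hyz
  have hw : hB hF 6 w w = 0 := by
    simp [hwdef, map_add, LinearMap.add_apply, form_left_smul, form_right_smul, hz, hy, hyz, hzy]
  have hw0 : w ≠ 0 := fun e => hind (hB hF 6 y' z) (by
    calc z = z + (hB hF 6 y' z • y + hB hF 6 y' z • y) := by rw [vec_add_self hF, add_zero]
      _ = hB hF 6 y' z • y := by rw [← add_assoc, ← hwdef, e, zero_add])
  have hwpq : w ∈ W hF ({p, q} : Set V) := (mem_W hF).2 fun x hx => by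
    rw [hwdef, map_add, form_right_smul, (mem_W hF).1 hzW x hx, (mem_W hF).1 hyW x hx, mul_zero, add_zero]
  have hwW : w ∈ W hF (insert y (insert y' ({p, q} : Set V))) := by
    rw [mem_W, Set.forall_mem_insert, Set.forall_mem_insert]
    exact ⟨by rw [hwdef, map_add, form_right_smul, hyz, hy, mul_zero, add_zero],
      by rw [hwdef, map_add, form_right_smul, hP.prod', mul_one, add_self_eq hF], (mem_W hF).1 hwpq⟩
  obtain ⟨w', hw', hP'⟩ := exists_pair hw hwW
    (hP.mate hyW hy' hwW (hpq ▸ h.mate (he p) (he q) (hpq ▸ hwpq) (mate_empty hw0)))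
  obtain ⟨h1, h2⟩ := h.count_two hP hyW hy'
  obtain ⟨h3, h4⟩ := hP'.split hwW hw'
  rw [h1] at h3
  rw [h2] at h4
  obtain ⟨h5, h6⟩ := hP'.split_left hwW hw'
  have hperm : insert w (insert y (insert y' ({p, q} : Set V))) = insert y (insert y' (insert w ({p, q} : Set V))) := by
    rw [Set.insert_comm w y, Set.insert_comm w y']
  have hyw : y ∈ W hF (insert w ({p, q} : Set V)) := by
    rw [mem_W, Set.forall_mem_insert]
    exact ⟨perp_symm hF ((mem_W hF).1 hwW y (by simp)), (mem_W hF).1 hyW⟩
  have hy'w : y' ∈ W hF (insert w ({p, q} : Set V)) := by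
    rw [mem_W, Set.forall_mem_insert]
    exact ⟨perp_symm hF ((mem_W hF).1 hwW y' (by simp)), (mem_W hF).1 hy'⟩
  obtain ⟨h7, h8⟩ := hP.split_left hyw hy'w
  rw [← hperm, h5] at h7
  rw [← hperm, h6] at h8
  have hE : W hF ({z, y, p, q} : Set V) = W hF (insert y (insert w ({p, q} : Set V))) := by
    ext v
    simp only [mem_W, Set.forall_mem_insert, hwdef, map_add, LinearMap.add_apply, form_left_smul]
    constructor
    · rintro ⟨a, b, c⟩; exact ⟨b, by rw [a, b, mul_zero, add_zero], c⟩
    · rintro ⟨a, b, c⟩; exact ⟨by rwa [a, mul_zero, add_zero] at b, a, c⟩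
  rw [S, hE]
  rw [S] at h8
  exact ⟨by omega, by omega⟩

/-- Two points on a line. -/
theorem count_two_points {x y : V} (hx : hB hF 6 x x = 0) (hx0 : x ≠ 0) (hy : hB hF 6 y y = 0)
    (hxy : hB hF 6 x y = 0) (hind : ∀ k : F, y ≠ k • x) :
    (W hF ({x, y} : Set V)).card = 256 ∧ S hF ({x, y} : Set V) = 64 := by
  have he : ∀ v : V, v ∈ W hF (∅ : Set V) := fun v => (mem_W hF).2 (by simp)
  obtain ⟨x', -, hP⟩ := exists_pair hx (he x) (mate_empty hx0)
  obtain ⟨w, hwdef⟩ : ∃ w, w = y + hB hF 6 x' y • x := ⟨_, rfl⟩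
  have hyx : hB hF 6 y x = 0 := perp_symm hF hxy
  have hw : hB hF 6 w w = 0 := by
    simp [hwdef, map_add, LinearMap.add_apply, form_left_smul, form_right_smul, hx, hy, hxy, hyx]
  have hw0 : w ≠ 0 := fun e => hind (hB hF 6 x' y) (by
    calc y = y + (hB hF 6 x' y • x + hB hF 6 x' y • x) := by rw [vec_add_self hF, add_zero]
      _ = hB hF 6 x' y • x := by rw [← add_assoc, ← hwdef, e, zero_add])
  have hwW : w ∈ W hF ({x, x'} : Set V) := by
    rw [mem_W, Set.forall_mem_insert]
    refine ⟨by rw [hwdef, map_add, form_right_smul, hxy, hx, mul_zero, add_zero], ?_⟩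
    simp only [Set.mem_singleton_iff, forall_eq]
    rw [hwdef, map_add, form_right_smul, hP.prod', mul_one, add_self_eq hF]
  obtain ⟨h1, h2⟩ := count_point hP hw hw0 hwW
  have hxw : x ∈ W hF ({w} : Set V) := (mem_W hF).2 (by simpa using perp_symm hF ((mem_W hF).1 hwW x (by simp)))
  have hx'w : x' ∈ W hF ({w} : Set V) :=
    (mem_W hF).2 (by simpa using perp_symm hF ((mem_W hF).1 hwW x' (by simp)))
  obtain ⟨h3, h4⟩ := hP.split_left hxw hx'w
  rw [show insert x (insert x' ({w} : Set V)) = {w, x, x'} by ext; simp only [Set.mem_insert_iff, Set.mem_singleton_iff]; tauto] at h3 h4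
  rw [h1] at h3
  rw [h2] at h4
  have hE : W hF ({x, y} : Set V) = W hF (insert x ({w} : Set V)) := by
    ext v
    simp only [mem_W, Set.forall_mem_insert, Set.mem_singleton_iff, forall_eq, hwdef, map_add,
      LinearMap.add_apply, form_left_smul]
    constructor
    · rintro ⟨a, b⟩; exact ⟨a, by rw [a, b, mul_zero, add_zero]⟩
    · rintro ⟨a, b⟩; exact ⟨a, by rwa [a, mul_zero, add_zero] at b⟩
  rw [S, hE]
  exact ⟨h3, h4⟩

end Cfsg.Lib.Fischer.Relations.FixedMember
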