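import Cfsg.Agent.Lib.Fischer.Relations.FixedMember.Count

/-!
# Common neighbours inside one neighbourhood
-/

set_option autoImplicit false
set_option linter.unusedSectionVars false

namespace Cfsg.Lib.Fischer.Relations.FixedMember

open Module Matrix Cfsg Cfsg.Lib.Fischer Cfsg.Lib.Linear.Herm Cfsg.Agent.S1631
  Cfsg.Lib.Fischer.RadicalAbelian
open Cfsg.Lib.Linear

variable {G : Type*} [Group G] [Finite G] {D : Set G}
  {F : Type} [Field F] [Fintype F] {hF : Fintype.card F = 2 ^ 2} {d : G}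
  (U : UData (perp D d) (hB hF 6))

include U

theorem points_mul (L : Set (Fin 6 → F)) :
    Set.ncard {s | s ∈ perp D d ∧ ∀ w ∈ L, hB hF 6 w (U.c s) = 0} * 3 + 1 = I hF L := by
  classical
  have hFu : Nat.card Fˣ = 3 := by rw [Nat.card_units, Nat.card_eq_fintype_card, hF]; norm_num
  obtain ⟨T, hT⟩ : ∃ T : Set G, T = {s | s ∈ perp D d ∧ ∀ w ∈ L, hB hF 6 w (U.c s) = 0} := ⟨_, rfl⟩
  rw [← hT, ← Nat.card_coe_set_eq, ← hFu, ← Nat.card_prod, I]
  have hTm : ∀ s : T, (s : G) ∈ perp D d ∧ ∀ w ∈ L, hB hF 6 w (U.c s) = 0 := fun s =>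
    (Set.ext_iff.1 hT (s : G)).1 s.2
  obtain ⟨R, hR⟩ : ∃ R, R = ((W hF L).filter fun v => hB hF 6 v v = 0) := ⟨_, rfl⟩
  rw [← hR]
  have h0 : (0 : Fin 6 → F) ∈ R := by
    rw [hR, Finset.mem_filter, mem_W]
    exact ⟨fun w _ => map_zero _, by simp⟩
  rw [← Finset.card_erase_add_one h0, Nat.add_right_cancel_iff, ← Nat.card_eq_finsetCard]
  refine Nat.card_eq_of_bijective (fun p => ⟨(p.2 : F) • U.c p.1, ?_⟩) ⟨?_, ?_⟩
  · rw [Finset.mem_erase, hR, Finset.mem_filter, mem_W]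
    refine ⟨smul_ne_zero p.2.ne_zero (U.ne _ (hTm p.1).1), fun w hw => ?_, ?_⟩
    · rw [form_right_smul, (hTm p.1).2 w hw, mul_zero]
    · simp [form_left_smul, form_right_smul, U.iso _ (hTm p.1).1]
  · rintro ⟨s, k⟩ ⟨t, l⟩ h
    have e : (k : F) • U.c s = (l : F) • U.c t := congrArg Subtype.val h
    have hst : s = t := Subtype.ext (U.inj _ (hTm s).1 _ (hTm t).1 ((l : F)⁻¹ * k) (by
      rw [mul_smul, e, smul_smul, inv_mul_cancel₀ l.ne_zero, one_smul]))
    subst hst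
    simp only [Prod.mk.injEq, true_and]
    exact Units.ext (smul_left_injective F (U.ne _ (hTm s).1) e)
  · rintro ⟨v, hv⟩
    rw [Finset.mem_erase, hR, Finset.mem_filter, mem_W] at hv
    obtain ⟨s, hs, k, hk, e⟩ := U.every v hv.2.2 hv.1
    have hsT : s ∈ T := by
      rw [hT]
      exact ⟨hs, fun w hw => by rw [e, form_right_smul, hv.2.1 w hw, mul_zero]⟩
    refine ⟨(⟨s, hsT⟩, (Units.mk0 k hk)⁻¹), Subtype.ext ?_⟩
    show ((Units.mk0 k hk)⁻¹ : Fˣ).val • U.c s = v
    rw [e, smul_smul, Units.val_inv_eq_inv_val, Units.val_mk0, inv_mul_cancel₀ hk, one_smul]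

theorem ncard_points (L : Set (Fin 6 → F)) (T : Set G) {m : ℕ} {sgn : ℤ}
    (hc : (W hF L).card = m) (hS : S hF L = sgn)
    (hT : ∀ s, s ∈ T ↔ s ∈ perp D d ∧ ∀ w ∈ L, hB hF 6 w (U.c s) = 0) :
    6 * (T.ncard : ℤ) + 2 = m + sgn := by
  have h := points_mul U L
  rw [show {s | s ∈ perp D d ∧ ∀ w ∈ L, hB hF 6 w (U.c s) = 0} = T from (Set.ext hT).symm] at h
  have h2 := two_I hF L
  rw [hc, hS] at h2
  omega

theorem pair_of {s t : G} (hs : s ∈ perp D d) (ht : t ∈ perp D d) (hn : ¬ Commute s t) :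
    ∃ q, Pair hF (U.c s) q ∧ ∀ v, hB hF 6 (U.c t) v = 0 ↔ hB hF 6 q v = 0 := by
  have h0 : hB hF 6 (U.c s) (U.c t) ≠ 0 := fun e => hn ((U.comm s hs t ht).2 e)
  refine ⟨(hB hF 6 (U.c s) (U.c t))⁻¹ • U.c t, ⟨U.iso s hs, ?_, ?_⟩, fun v => ?_⟩
  · simp [form_left_smul, form_right_smul, U.iso t ht]
  · rw [form_right_smul, inv_mul_cancel₀ h0]
  · simp [form_left_smul, h0]

theorem comm_iff {s t : G} (hs : s ∈ perp D d) (ht : t ∈ perp D d) :
    Commute s t ↔ hB hF 6 (U.c s) (U.c t) = 0 := U.comm s hs t ht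

theorem ind_of {s t : G} (hs : s ∈ perp D d) (ht : t ∈ perp D d) (hne : s ≠ t) :
    ∀ k : F, U.c t ≠ k • U.c s := fun k e => hne (U.inj s hs t ht k e)

theorem mem_pair {s t : G} {q : Fin 6 → F} (hs : s ∈ perp D d) (ht : t ∈ perp D d)
    (hq : ∀ v, hB hF 6 (U.c t) v = 0 ↔ hB hF 6 q v = 0) {u : G} (hu : u ∈ perp D d) :
    U.c u ∈ W hF ({U.c s, q} : Set (Fin 6 → F)) ↔ Commute s u ∧ Commute t u := by
  rw [mem_W, Set.forall_mem_insert]
  simp only [Set.mem_singleton_iff, forall_eq]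
  rw [comm_iff U hs hu, comm_iff U ht hu, ← hq]

theorem ncard_two {s t : G} (hs : s ∈ perp D d) (ht : t ∈ perp D d) (hn : ¬ Commute s t) :
    Set.ncard {u | u ∈ perp D d ∧ Commute s u ∧ Commute t u} = 45 := by
  obtain ⟨q, hP, hq⟩ := pair_of U hs ht hn
  obtain ⟨hc, hS⟩ := hP.count
  have := ncard_points U _ {u | u ∈ perp D d ∧ Commute s u ∧ Commute t u} hc hS fun u =>
    and_congr_right fun hu => by rw [← mem_pair U hs ht hq hu, mem_W]
  omega

theorem ncard_three {s t y : G} (hs : s ∈ perp D d) (ht : t ∈ perp D d) (hn : ¬ Commute s t)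
    (hy : y ∈ perp D d) (hsy : Commute s y) (hty : Commute t y) :
    Set.ncard {u | u ∈ perp D d ∧ Commute s u ∧ Commute t u ∧ Commute y u} = 13 := by
  obtain ⟨q, hP, hq⟩ := pair_of U hs ht hn
  obtain ⟨hc, hS⟩ := count_point hP (U.iso y hy) (U.ne y hy) ((mem_pair U hs ht hq hy).2 ⟨hsy, hty⟩)
  have := ncard_points U _ {u | u ∈ perp D d ∧ Commute s u ∧ Commute t u ∧ Commute y u} hc hS fun u =>
    and_congr_right fun hu => by
      rw [comm_iff U hs hu, comm_iff U ht hu, comm_iff U hy hu, hq]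
      simp only [Set.forall_mem_insert, Set.mem_singleton_iff, forall_eq]
      tauto
  omega

open Classical in
theorem ncard_four {s t y z : G} (hs : s ∈ perp D d) (ht : t ∈ perp D d) (hn : ¬ Commute s t)
    (hy : y ∈ perp D d) (hz : z ∈ perp D d) (hsy : Commute s y) (hty : Commute t y) (hsz : Commute s z)
    (htz : Commute t z) (hne : y ≠ z) :
    Set.ncard {u | u ∈ perp D d ∧ Commute s u ∧ Commute t u ∧ Commute y u ∧ Commute z u} =
      if hB hF 6 (U.c y) (U.c z) = 0 then 5 else 3 := by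
  classical
  obtain ⟨q, hP, hq⟩ := pair_of U hs ht hn
  split_ifs with hyz
  · obtain ⟨hc, hS⟩ := count_line hP (U.iso y hy) (U.ne y hy) ((mem_pair U hs ht hq hy).2 ⟨hsy, hty⟩)
      (U.iso z hz) ((mem_pair U hs ht hq hz).2 ⟨hsz, htz⟩) hyz (ind_of U hy hz hne)
    have := ncard_points U _ {u | u ∈ perp D d ∧ Commute s u ∧ Commute t u ∧ Commute y u ∧ Commute z u} hc hS
      fun u => and_congr_right fun hu => by
        rw [comm_iff U hs hu, comm_iff U ht hu, comm_iff U hy hu, comm_iff U hz hu, hq]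
        simp only [Set.forall_mem_insert, Set.mem_singleton_iff, forall_eq]
        tauto
    omega
  · have hnyz : ¬ Commute y z := fun h => hyz ((comm_iff U hy hz).1 h)
    obtain ⟨r, hR, hr⟩ := pair_of U hy hz hnyz
    have hyW := (mem_pair U hs ht hq hy).2 ⟨hsy, hty⟩
    have hrW : r ∈ W hF ({U.c s, q} : Set (Fin 6 → F)) := by
      have hzW := (mem_pair U hs ht hq hz).2 ⟨hsz, htz⟩
      rw [mem_W] at hzW ⊢
      exact fun w hw => perp_symm hF ((hr w).1 (perp_symm hF (hzW w hw)))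
    obtain ⟨hc, hS⟩ := hP.count_two hR hyW hrW
    have := ncard_points U _ {u | u ∈ perp D d ∧ Commute s u ∧ Commute t u ∧ Commute y u ∧ Commute z u} hc hS
      fun u => and_congr_right fun hu => by
        rw [comm_iff U hs hu, comm_iff U ht hu, comm_iff U hy hu, comm_iff U hz hu, hq, hr]
        simp only [Set.forall_mem_insert, Set.mem_singleton_iff, forall_eq]
        tauto
    omega

theorem ncard_four_commute {s t y z : G} (hs : s ∈ perp D d) (ht : t ∈ perp D d) (hn : ¬ Commute s t)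
    (hy : y ∈ perp D d) (hz : z ∈ perp D d) (hsy : Commute s y) (hty : Commute t y) (hsz : Commute s z)
    (htz : Commute t z) (hne : y ≠ z) (hyz : Commute y z) :
    Set.ncard {u | u ∈ perp D d ∧ Commute s u ∧ Commute t u ∧ Commute y u ∧ Commute z u} = 5 := by
  rw [ncard_four U hs ht hn hy hz hsy hty hsz htz hne, if_pos ((comm_iff U hy hz).1 hyz)]

theorem ncard_four_noncommute {s t y z : G} (hs : s ∈ perp D d) (ht : t ∈ perp D d) (hn : ¬ Commute s t)
    (hy : y ∈ perp D d) (hz : z ∈ perp D d) (hsy : Commute s y) (hty : Commute t y) (hsz : Commute s z)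
    (htz : Commute t z) (hyz : ¬ Commute y z) :
    Set.ncard {u | u ∈ perp D d ∧ Commute s u ∧ Commute t u ∧ Commute y u ∧ Commute z u} = 3 := by
  rw [ncard_four U hs ht hn hy hz hsy hty hsz htz (fun e => hyz (e ▸ Commute.refl y)),
    if_neg (fun h => hyz ((comm_iff U hy hz).2 h))]

theorem ncard_line {x y : G} (hx : x ∈ perp D d) (hy : y ∈ perp D d) (hne : x ≠ y) (hxy : Commute x y) :
    Set.ncard {u | u ∈ perp D d ∧ Commute x u ∧ Commute y u} = 53 := by
  obtain ⟨hc, hS⟩ := count_two_points (U.iso x hx) (U.ne x hx) (U.iso y hy) ((comm_iff U hx hy).1 hxy)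
    (ind_of U hx hy hne)
  have := ncard_points U _ {u | u ∈ perp D d ∧ Commute x u ∧ Commute y u} hc hS fun u =>
    and_congr_right fun hu => by
      rw [comm_iff U hx hu, comm_iff U hy hu]
      simp only [Set.forall_mem_insert, Set.mem_singleton_iff, forall_eq]
  omega

end Cfsg.Lib.Fischer.Relations.FixedMember
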