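import Cfsg.Agent.Lib.Fischer.Relations.FixedMember.Quad

/-!
# Involutory automorphisms of type M(22) fix a member

Otherwise every member commutes with its image. Then for commuting `a`, `b = φ a` each of the 512 members `c` in
the neighbourhood of `a` away from `b` has, with `φ c`, 18 common neighbours among those of `a` and `b`, while each
of the 180 of these sees at most 50 such `c`.
-/

set_option autoImplicit false
set_option linter.unusedSectionVars false

namespace Cfsg.Lib.Fischer.Relations.FixedMember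

open Module Matrix Cfsg Cfsg.Lib.Fischer Cfsg.Lib.Linear.Herm Cfsg.Agent.S1631
  Cfsg.Lib.Fischer.RadicalAbelian
open Cfsg.Lib.Linear

variable {G : Type*} [Group G] [Finite G] {D : Set G}
  {F : Type} [Field F] [Fintype F] {hF : Fintype.card F = 2 ^ 2}

theorem exists_fixed (hS : Srg D hF) (φ : MulAut G) (hφ : ∀ x, φ (φ x) = x) (hD : ∀ x ∈ D, φ x ∈ D) :
    ∃ d ∈ D, φ d = d := by
  classical
  haveI := Fintype.ofFinite G
  have hT := hS.fis.toTrans
  by_cases hno : ∃ x ∈ D, ¬ Commute x (φ x)
  · obtain ⟨x, hx, hn⟩ := hno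
    refine ⟨cj x (φ x), cj_mem hT hx (hD x hx), ?_⟩
    rw [cj_def, map_mul, map_mul, hφ]
    exact (braid hT hx (hD x hx) hn).symm
  push Not at hno
  by_contra! hfix
  obtain ⟨a, ha⟩ := hT.ne
  obtain ⟨b, hbdef⟩ : ∃ b, b = φ a := ⟨_, rfl⟩
  have hb : b ∈ D := hbdef ▸ hD a ha
  have hne : b ≠ a := hbdef ▸ hfix a ha
  have hab : Commute a b := hbdef ▸ hno a ha
  have hφb : φ b = a := by rw [hbdef, hφ]
  obtain ⟨U⟩ := hS.nbr a ha
  obtain ⟨P, hP⟩ : ∃ P : Finset G, P = Finset.univ.filter fun x => x ∈ perp D a ∧ x ≠ b ∧ Commute b x :=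
    ⟨_, rfl⟩
  obtain ⟨C, hC⟩ : ∃ C : Finset G, C = Finset.univ.filter fun x => x ∈ perp D a ∧ ¬ Commute b x := ⟨_, rfl⟩
  have h181 := hS.par.adj a ha b ⟨hb, hne, hab⟩
  rw [Nat.card_coe_set_eq] at h181
  have hPc : P.card = 180 := by
    have he : {u | u ∈ perp D a ∧ Commute b u} = insert b (P : Set G) := by
      ext u
      simp only [hP, Set.mem_insert_iff, Finset.coe_filter, Finset.mem_univ, true_and, Set.mem_setOf_eq]
      constructor
      · intro hu
        by_cases h : u = b
        exacts [Or.inl h, Or.inr ⟨hu.1, h, hu.2⟩]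
      · rintro (rfl | h)
        exacts [⟨⟨hb, hne, hab⟩, Commute.refl _⟩, ⟨h.1, h.2.2⟩]
    rw [he, Set.ncard_insert_of_notMem (by simp [hP]), Set.ncard_coe_finset] at h181
    omega
  have hCc : C.card = 512 := by
    have h693 := hS.par.val a ha
    rw [Nat.card_coe_set_eq] at h693
    have he : perp D a = {u | u ∈ perp D a ∧ Commute b u} ∪ (C : Set G) := by
      ext u
      by_cases h : Commute b u <;> simp [hC, h]
    rw [he, Set.ncard_union_eq, h181, Set.ncard_coe_finset] at h693
    · omega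
    · exact Set.disjoint_left.2 fun u hu hu' => by simp [hC] at hu'; exact hu'.2 hu.2
  have hcomm : ∀ {x y : G}, Commute x y → Commute (φ x) (φ y) := fun {x y} h => h.map φ.toMonoidHom
  -- each far neighbour meets eighteen
  have hrow : ∀ c ∈ C, (P.filter fun x => Commute c x ∧ Commute (φ c) x).card = 18 := by
    intro c hc
    simp only [hC, Finset.mem_filter, Finset.mem_univ, true_and] at hc
    obtain ⟨⟨hcD, hca, hac⟩, hbc⟩ := hc
    have hdb : Commute (φ c) b := by rw [hbdef]; exact (hcomm hac).symm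
    have had : ¬ Commute a (φ c) := fun h => hbc (by rw [hbdef]; simpa [hφ] using hcomm h)
    rw [← hS.quad_eq ha hb hcD (hD c hcD) had hbc hab hdb hac (hno c hcD).symm,
      Set.ncard_eq_toFinset_card', hP, Finset.filter_filter]
    congr 1
    ext u
    simp only [Finset.mem_filter, Finset.mem_univ, true_and, Set.mem_toFinset, around, Set.mem_setOf_eq]
    constructor
    · rintro ⟨⟨⟨hu, -, hau⟩, hub, hbu⟩, hcu, hdu⟩
      exact ⟨⟨⟨hu, hub, hbu⟩, hau, hdu⟩, hcu⟩
    · rintro ⟨⟨⟨hu, hub, hbu⟩, hau, hdu⟩, hcu⟩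
      exact ⟨⟨⟨hu, fun e => had (e ▸ hdu).symm, hau⟩, hub, hbu⟩, hcu, hdu⟩
  -- each common neighbour is met at most fifty times
  have hcol : ∀ x ∈ P, (C.filter fun c => Commute c x ∧ Commute (φ c) x).card ≤ 50 := by
    intro x hx
    simp only [hP, Finset.mem_filter, Finset.mem_univ, true_and] at hx
    obtain ⟨⟨hxD, hxa, hax⟩, hxb, hbx⟩ := hx
    have hyD := hD x hxD
    have hya : φ x ≠ a := fun e => hxb (by rw [hbdef, ← e, hφ])
    have hyb : φ x ≠ b := fun e => hxa (φ.injective (e.trans hbdef))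
    have hay : Commute a (φ x) := hφb ▸ hcomm hbx
    have hby : Commute b (φ x) := by rw [hbdef]; exact hcomm hax
    have h53 := ncard_line U ⟨hxD, hxa, hax⟩ ⟨hyD, hya, hay⟩ (hfix x hxD).symm (hno x hxD)
    have hsub : insert x (insert (φ x) (insert b ((C.filter fun c => Commute c x ∧ Commute (φ c) x) : Set G))) ⊆
        {u | u ∈ perp D a ∧ Commute x u ∧ Commute (φ x) u} := by
      intro u hu
      simp only [Set.mem_insert_iff, Finset.coe_filter, hC, Finset.mem_filter, Finset.mem_univ, true_and,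
        Set.mem_setOf_eq] at hu
      rcases hu with e | e | e | ⟨⟨h1, -⟩, h2, h3⟩
      · subst e; exact ⟨⟨hxD, hxa, hax⟩, Commute.refl _, (hno u hxD).symm⟩
      · subst e; exact ⟨⟨hyD, hya, hay⟩, hno x hxD, Commute.refl _⟩
      · subst e; exact ⟨⟨hb, hne, hab⟩, hbx.symm, hby.symm⟩
      · exact ⟨h1, h2.symm, by simpa [hφ] using (hcomm h3).symm⟩
    have := Set.ncard_le_ncard hsub
    rw [Set.ncard_insert_of_notMem, Set.ncard_insert_of_notMem, Set.ncard_insert_of_notMem,
      Set.ncard_coe_finset, h53] at this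
    · omega
    · simp [hC]
    · simp [hC, hyb, hby]
    · simp [hC, hxb, hbx, (hfix x hxD).symm]
  have : ∑ c ∈ C, (P.filter fun x => Commute c x ∧ Commute (φ c) x).card ≤ 180 * 50 := by
    simp only [Finset.card_filter]
    rw [Finset.sum_comm]
    refine le_trans (Finset.sum_le_sum (g := fun _ => 50) fun x hx => ?_) (by simp [hPc])
    rw [← Finset.card_filter]
    exact hcol x hx
  rw [Finset.sum_congr rfl hrow] at this
  simp [hCc] at this

end Cfsg.Lib.Fischer.Relations.FixedMember
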