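import Cfsg.Agent.Lib.Fischer.Relations.FixedMember.Local
import Cfsg.Agent.Lib.Fischer.Relations.Twenty.Order

/-!
# A quadrangle of members has 18 common neighbours

The members commuting with two non-commuting members and a third form a strongly regular graph on 45 points with
parameters (12, 3, 3); in it the common neighbours of a quadrangle induce a cubic graph, so number at most 18, and
their average is 18.
-/

set_option autoImplicit false
set_option linter.unusedSectionVars false

namespace Cfsg.Lib.Fischer.Relations.FixedMember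

open Module Matrix Cfsg Cfsg.Lib.Fischer Cfsg.Lib.Linear.Herm Cfsg.Agent.S1631
  Cfsg.Lib.Fischer.RadicalAbelian
open Cfsg.Lib.Linear

/-- A subgraph of valency three in a graph on 45 points of valency twelve with three common neighbours. -/
theorem card_le_eighteen {α : Type*} [DecidableEq α] (Z Q : Finset α) (R : α → α → Prop) [DecidableRel R]
    (hsymm : ∀ a b, R a b → R b a) (hQZ : Q ⊆ Z) (hZ : Z.card = 45)
    (hdeg : ∀ y ∈ Z, (Z.filter (R y)).card = 12)
    (hpair : ∀ y ∈ Z, ∀ z ∈ Z, y ≠ z → (Z.filter fun u => R y u ∧ R z u).card = 3)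
    (hQ : ∀ y ∈ Q, (Q.filter (R y)).card = 3) : Q.card ≤ 18 := by
  let f : α → ℤ := fun z => ∑ y ∈ Q, if R y z then 1 else 0
  have h1 : ∑ z ∈ Z, f z = 12 * Q.card := by
    rw [Finset.sum_comm, Finset.sum_congr rfl (g := fun _ => (12 : ℤ)) fun y hy => by
      rw [Finset.sum_boole, hdeg y (hQZ hy)]; norm_num]
    simp [mul_comm]
  have h2 : ∑ z ∈ Z, f z * f z = 3 * Q.card * Q.card + 9 * Q.card := by
    have e : ∀ y ∈ Q, ∑ y' ∈ Q, ∑ z ∈ Z, ((if R y z then 1 else 0) * (if R y' z then 1 else 0) : ℤ) =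
        3 * Q.card + 9 := by
      intro y hy
      have e' : ∀ y' ∈ Q, ∑ z ∈ Z, ((if R y z then 1 else 0) * (if R y' z then 1 else 0) : ℤ) =
          3 + (if y = y' then 9 else 0) := by
        intro y' hy'
        simp only [ite_mul, one_mul, zero_mul, ← ite_and]
        rw [Finset.sum_boole]
        by_cases h : y = y'
        · subst h; simp [hdeg y (hQZ hy)]
        · rw [hpair y (hQZ hy) y' (hQZ hy') h, if_neg h]; norm_num
      rw [Finset.sum_congr rfl e', Finset.sum_add_distrib, Finset.sum_ite_eq, if_pos hy]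
      simp [mul_comm]
    calc ∑ z ∈ Z, f z * f z
        = ∑ y ∈ Q, ∑ y' ∈ Q, ∑ z ∈ Z, ((if R y z then 1 else 0) * (if R y' z then 1 else 0) : ℤ) := by
          simp only [f, Finset.sum_mul_sum]
          rw [Finset.sum_comm]
          exact Finset.sum_congr rfl fun y _ => Finset.sum_comm
      _ = 3 * Q.card * Q.card + 9 * Q.card := by
          rw [Finset.sum_congr rfl e]; simp; ring
  have h3 : ∀ z ∈ Q, f z = 3 := fun z hz => by
    simp only [f]
    rw [Finset.sum_boole, show (Q.filter fun y => R y z) = Q.filter (R z) from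
      Finset.filter_congr fun y _ => ⟨hsymm y z, hsymm z y⟩, hQ z hz]
    norm_num
  have h4 : ∑ z ∈ Z \ Q, f z = 9 * Q.card := by
    have := Finset.sum_sdiff (f := f) hQZ
    rw [Finset.sum_congr rfl h3, h1] at this
    simp at this
    linarith
  have h5 : ∑ z ∈ Z \ Q, f z ^ 2 = 3 * Q.card * Q.card := by
    have := Finset.sum_sdiff (f := fun z => f z * f z) hQZ
    rw [Finset.sum_congr rfl (fun z hz => by rw [h3 z hz] : ∀ z ∈ Q, f z * f z = 3 * 3), h2] at this
    simp at this
    simp only [pow_two]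
    linarith
  have h6 := sq_sum_le_card_mul_sum_sq (s := Z \ Q) (f := f)
  rw [h4, h5] at h6
  have h7 : ((Z \ Q).card : ℤ) = 45 - Q.card := by
    rw [Finset.card_sdiff_of_subset hQZ, Nat.cast_sub (Finset.card_le_card hQZ), hZ]; norm_num
  rw [h7] at h6
  rcases Nat.eq_zero_or_pos Q.card with h | h
  · omega
  · by_contra hc
    have hq : (19 : ℤ) ≤ Q.card := by exact_mod_cast (not_le.1 hc)
    nlinarith

variable {G : Type*} [Group G] [Finite G] {D : Set G}
  {F : Type} [Field F] [Fintype F] {hF : Fintype.card F = 2 ^ 2}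

/-- The standing hypotheses. -/
structure Srg (D : Set G) (hF : Fintype.card F = 2 ^ 2) : Prop where
  fis : IsFischer D
  nbr : ∀ a ∈ D, Nonempty (UData (perp D a) (hB hF 6))
  par : Params D 693 181
  size : D.ncard = 3510

theorem Srg.card_common_far (hS : Srg D hF) {a d : G} (ha : a ∈ D) (hd : d ∈ D) (had : ¬ Commute a d) :
    Set.ncard {u | u ∈ D ∧ Commute a u ∧ Commute d u} = 126 := by
  rw [card_both_noncommute had, ← Nat.card_coe_set_eq]
  have h1 := card_class ha hS.par
  rw [hS.size] at h1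
  have h2 := far_mul_common hS.fis hS.par ha hd had
  rw [show Nat.card (far D a) = 2816 by omega] at h2
  omega

theorem perp_of {a u : G} (hu : u ∈ D) (hne : u ≠ a) (h : Commute a u) : u ∈ perp D a := ⟨hu, hne, h⟩

variable {a b d : G}

/-- The common neighbours of `a`, `d` and `b`, `b` itself left out. -/
def around (D : Set G) (a d b : G) : Set G := {u | u ∈ perp D b ∧ Commute a u ∧ Commute d u}

theorem Srg.around_facts (hS : Srg D hF) (ha : a ∈ D) (hb : b ∈ D) (hd : d ∈ D) (had : ¬ Commute a d)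
    (hab : Commute a b) (hdb : Commute d b) :
    (around D a d b).ncard = 45 ∧ (∀ y ∈ around D a d b,
      Set.ncard {u | u ∈ around D a d b ∧ u ≠ y ∧ Commute y u} = 12) ∧
    ∀ y ∈ around D a d b, ∀ z ∈ around D a d b, y ≠ z →
      Set.ncard {u | u ∈ around D a d b ∧ (u ≠ y ∧ Commute y u) ∧ u ≠ z ∧ Commute z u} = 3 := by
  obtain ⟨U⟩ := hS.nbr b hb
  have hab' : a ≠ b := fun e => had (e ▸ hdb.symm)
  have hdb' : d ≠ b := fun e => had (e ▸ hab)
  have hap := perp_of ha hab' hab.symm
  have hdp := perp_of hd hdb' hdb.symm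
  refine ⟨ncard_two U hap hdp had, fun y hy => ?_, fun y hy z hz hyz => ?_⟩
  · have h := ncard_three U hap hdp had hy.1 hy.2.1 hy.2.2
    have he : {u | u ∈ perp D b ∧ Commute a u ∧ Commute d u ∧ Commute y u} =
        insert y {u | u ∈ around D a d b ∧ u ≠ y ∧ Commute y u} := by
      ext u
      constructor
      · rintro ⟨h1, h2, h3, h4⟩
        by_cases hu : u = y
        exacts [Or.inl hu, Or.inr ⟨⟨h1, h2, h3⟩, hu, h4⟩]
      · rintro (rfl | ⟨⟨h1, h2, h3⟩, -, h4⟩)
        exacts [⟨hy.1, hy.2.1, hy.2.2, Commute.refl _⟩, ⟨h1, h2, h3, h4⟩]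
    rw [he, Set.ncard_insert_of_notMem fun h => h.2.1 rfl] at h
    omega
  · by_cases hc : Commute y z
    · have h := ncard_four_commute U hap hdp had hy.1 hz.1 hy.2.1 hy.2.2 hz.2.1 hz.2.2 hyz hc
      have he : {u | u ∈ perp D b ∧ Commute a u ∧ Commute d u ∧ Commute y u ∧ Commute z u} =
          insert y (insert z {u | u ∈ around D a d b ∧ (u ≠ y ∧ Commute y u) ∧ u ≠ z ∧ Commute z u}) := by
        ext u
        constructor
        · rintro ⟨h1, h2, h3, h4, h5⟩
          by_cases hu : u = y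
          · exact Or.inl hu
          by_cases hu' : u = z
          exacts [Or.inr (Or.inl hu'), Or.inr (Or.inr ⟨⟨h1, h2, h3⟩, ⟨hu, h4⟩, hu', h5⟩)]
        · rintro (rfl | rfl | ⟨⟨h1, h2, h3⟩, ⟨-, h4⟩, -, h5⟩)
          exacts [⟨hy.1, hy.2.1, hy.2.2, Commute.refl _, hc.symm⟩, ⟨hz.1, hz.2.1, hz.2.2, hc, Commute.refl _⟩,
            ⟨h1, h2, h3, h4, h5⟩]
      rw [he, Set.ncard_insert_of_notMem, Set.ncard_insert_of_notMem fun h => h.2.2.1 rfl] at h
      · omega
      · rintro (h | h)
        exacts [hyz h, h.2.1.1 rfl]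
    · refine Eq.trans ?_ (ncard_four_noncommute U hap hdp had hy.1 hz.1 hy.2.1 hy.2.2 hz.2.1 hz.2.2 hc)
      congr 1
      ext u
      constructor
      · rintro ⟨⟨h1, h2, h3⟩, ⟨-, h4⟩, -, h5⟩
        exact ⟨h1, h2, h3, h4, h5⟩
      · rintro ⟨h1, h2, h3, h4, h5⟩
        exact ⟨⟨h1, h2, h3⟩, ⟨fun e => hc (e ▸ h5).symm, h4⟩, fun e => hc (e ▸ h4), h5⟩

/-- The common neighbours of a quadrangle. -/
theorem Srg.quad_le (hS : Srg D hF) {c : G} (ha : a ∈ D) (hb : b ∈ D) (hc : c ∈ D) (hd : d ∈ D)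
    (had : ¬ Commute a d) (hbc : ¬ Commute b c) (hab : Commute a b) (hdb : Commute d b) (hac : Commute a c)
    (hdc : Commute d c) : Set.ncard {u | u ∈ around D a d b ∧ Commute c u} ≤ 18 := by
  classical
  haveI := Fintype.ofFinite G
  obtain ⟨h45, hdeg, hpair⟩ := hS.around_facts ha hb hd had hab hdb
  have key := card_le_eighteen (Finset.univ.filter (· ∈ around D a d b))
    (Finset.univ.filter fun u => u ∈ around D a d b ∧ Commute c u) (fun y u => u ≠ y ∧ Commute y u)
    (fun y u h => ⟨h.1.symm, h.2.symm⟩)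
    (fun u hu => by simp only [Finset.mem_filter] at hu ⊢; exact ⟨hu.1, hu.2.1⟩)
    (by rw [← h45, Set.ncard_eq_toFinset_card']; congr 1; ext u; simp)
    (fun y hy => by
      rw [Finset.filter_filter, ← hdeg y (by simpa using hy), Set.ncard_eq_toFinset_card']
      congr 1; ext u; simp; tauto)
    (fun y hy z hz hyz => by
      rw [Finset.filter_filter, ← hpair y (by simpa using hy) z (by simpa using hz) hyz,
        Set.ncard_eq_toFinset_card']
      congr 1; ext u; simp; tauto)
    (fun y hy => by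
      simp only [Finset.mem_filter, Finset.mem_univ, true_and] at hy
      obtain ⟨⟨hyb, hay, hdy⟩, hcy⟩ := hy
      obtain ⟨U⟩ := hS.nbr y hyb.1
      have hay' : a ≠ y := fun e => had (e ▸ hdy.symm)
      have hdy' : d ≠ y := fun e => had (e ▸ hay)
      have hcy' : c ≠ y := fun e => hbc (e ▸ hyb.2.2)
      have h := ncard_four_noncommute U (perp_of ha hay' hay.symm) (perp_of hd hdy' hdy.symm) had
        (perp_of hb hyb.2.1.symm hyb.2.2.symm) (perp_of hc hcy' hcy.symm) hab hdb hac hdc hbc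
      rw [Finset.filter_filter, ← h, Set.ncard_eq_toFinset_card']
      congr 1
      ext u
      simp only [Finset.mem_filter, Finset.mem_univ, true_and, Set.mem_toFinset, Set.mem_setOf_eq]
      constructor
      · rintro ⟨⟨⟨hub, hau, hdu⟩, hcu⟩, huy, hyu⟩
        exact ⟨⟨hub.1, huy, hyu⟩, hau, hdu, hub.2.2, hcu⟩
      · rintro ⟨⟨huD, huy, hyu⟩, hau, hdu, hbu, hcu⟩
        exact ⟨⟨⟨⟨huD, fun e => hbc (e ▸ hcu).symm, hbu⟩, hau, hdu⟩, hcu⟩, huy, hyu⟩)
  refine le_trans (le_of_eq ?_) key
  rw [Set.ncard_eq_toFinset_card']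
  congr 1; ext u; simp

/-- A quadrangle has exactly 18 common neighbours. -/
theorem Srg.quad_eq (hS : Srg D hF) {c : G} (ha : a ∈ D) (hb : b ∈ D) (hc : c ∈ D) (hd : d ∈ D)
    (had : ¬ Commute a d) (hbc : ¬ Commute b c) (hab : Commute a b) (hdb : Commute d b) (hac : Commute a c)
    (hdc : Commute d c) : Set.ncard {u | u ∈ around D a d b ∧ Commute c u} = 18 := by
  classical
  haveI := Fintype.ofFinite G
  obtain ⟨h45, hdeg, hpair⟩ := hS.around_facts ha hb hd had hab hdb
  obtain ⟨Z, hZ⟩ : ∃ Z : Finset G, Z = Finset.univ.filter (· ∈ around D a d b) := ⟨_, rfl⟩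
  obtain ⟨T, hT⟩ : ∃ T : Finset G, T = Finset.univ.filter fun x =>
    (x ∈ D ∧ Commute a x ∧ Commute d x) ∧ ¬ Commute b x := ⟨_, rfl⟩
  have hZc : Z.card = 45 := by rw [hZ, ← h45, Set.ncard_eq_toFinset_card']; congr 1; ext u; simp
  have hTc : T.card = 80 := by
    have h126 := hS.card_common_far ha hd had
    have he : {u | u ∈ D ∧ Commute a u ∧ Commute d u} = insert b (around D a d b ∪ (T : Set G)) := by
      ext u
      simp only [hT, Set.mem_insert_iff, Set.mem_union, Finset.coe_filter, Finset.mem_univ, true_and,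
        Set.mem_setOf_eq]
      constructor
      · intro hu
        by_cases hub : u = b
        · exact Or.inl hub
        by_cases hcu : Commute b u
        exacts [Or.inr (Or.inl ⟨⟨hu.1, hub, hcu⟩, hu.2⟩), Or.inr (Or.inr ⟨hu, hcu⟩)]
      · rintro (rfl | ⟨h1, h2⟩ | ⟨h1, -⟩)
        exacts [⟨hb, hab, hdb⟩, ⟨h1.1, h2⟩, h1]
    rw [he, Set.ncard_insert_of_notMem, Set.ncard_union_eq, h45, Set.ncard_coe_finset] at h126
    · omega
    · exact Set.disjoint_left.2 fun u hu hu' => by
        simp [hT] at hu'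
        exact hu'.2 hu.1.2.2
    · rintro (h | h)
      · exact h.1.2.1 rfl
      · simp [hT] at h
  have hrow : ∀ u ∈ Z, (T.filter fun x => Commute x u).card = 32 := by
    intro u hu
    simp only [hZ, Finset.mem_filter, Finset.mem_univ, true_and] at hu
    obtain ⟨U⟩ := hS.nbr u hu.1.1
    have hau' : a ≠ u := fun e => had (e ▸ hu.2.2.symm)
    have hdu' : d ≠ u := fun e => had (e ▸ hu.2.1)
    have h := ncard_two U (perp_of ha hau' hu.2.1.symm) (perp_of hd hdu' hu.2.2.symm) had
    have h12 := hdeg u hu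
    have he : {x | x ∈ perp D u ∧ Commute a x ∧ Commute d x} =
        insert b ({x | x ∈ around D a d b ∧ x ≠ u ∧ Commute u x} ∪
          ((T.filter fun x => Commute x u) : Set G)) := by
      ext x
      simp only [hT, Set.mem_insert_iff, Set.mem_union, Finset.coe_filter, Finset.mem_filter, Finset.mem_univ,
        true_and, Set.mem_setOf_eq]
      constructor
      · rintro ⟨⟨hx, hxu, hux⟩, hax, hdx⟩
        by_cases hxb : x = b
        · exact Or.inl hxb
        by_cases hcx : Commute b x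
        exacts [Or.inr (Or.inl ⟨⟨⟨hx, hxb, hcx⟩, hax, hdx⟩, hxu, hux⟩),
          Or.inr (Or.inr ⟨⟨⟨hx, hax, hdx⟩, hcx⟩, hux.symm⟩)]
      · rintro (rfl | ⟨⟨h1, h2⟩, h3, h4⟩ | ⟨⟨⟨h1, h2⟩, h3⟩, h4⟩)
        exacts [⟨⟨hb, hu.1.2.1.symm, hu.1.2.2.symm⟩, hab, hdb⟩, ⟨⟨h1.1, h3, h4⟩, h2⟩,
          ⟨⟨h1, fun e => h3 (e ▸ hu.1.2.2), h4.symm⟩, h2⟩]
    rw [he, Set.ncard_insert_of_notMem, Set.ncard_union_eq, h12, Set.ncard_coe_finset] at h
    · omega
    · exact Set.disjoint_left.2 fun x hx hx' => by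
        simp [hT] at hx'
        exact hx'.1.2 hx.1.1.2.2
    · rintro (h | h)
      · exact h.1.1.2.1 rfl
      · simp [hT] at h
  have hsum : ∑ x ∈ T, (Z.filter fun u => Commute x u).card = ∑ x ∈ T, 18 := by
    simp only [Finset.card_filter]
    rw [Finset.sum_comm, Finset.sum_congr rfl (g := fun _ => 32) fun u hu => by
      rw [← Finset.card_filter]; exact hrow u hu]
    simp [hZc, hTc]
  have hle : ∀ x ∈ T, (Z.filter fun u => Commute x u).card ≤ 18 := fun x hx => by
    simp only [hT, Finset.mem_filter, Finset.mem_univ, true_and] at hx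
    refine le_trans (le_of_eq ?_) (hS.quad_le ha hb hx.1.1 hd had hx.2 hab hdb hx.1.2.1 hx.1.2.2)
    rw [hZ, Set.ncard_eq_toFinset_card', Finset.filter_filter]
    congr 1; ext u; simp
  have := (Finset.sum_eq_sum_iff_of_le hle).1 hsum c (by simp [hT, hc, hac, hdc, hbc])
  rw [← this, hZ, Set.ncard_eq_toFinset_card', Finset.filter_filter]
  congr 1; ext u; simp

end Cfsg.Lib.Fischer.Relations.FixedMember
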